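import Groth.Agent.CBC.DegFam
import Groth.Agent.AmpleLib.Basic
import Groth.Agent.FlatMor.Strat.Global

/-!
# Only finitely many Hilbert polynomials occur over a quasi-compact base
-/

set_option autoImplicit false
set_option linter.style.haveILetI false

universe u

open CategoryTheory CategoryTheory.Limits AlgebraicGeometry TopologicalSpace

noncomputable section

namespace Groth.Agent.HilbFin

open Groth.Agent.CBC.DegFam (chi isProper_fiber exists_fibre_square)

variable {X S : Scheme.{u}}

/-- `χ` over a field valued point only depends on the underlying point. -/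
theorem chi_eq_of_square (f : X ⟶ S) [IsProper f] {M : X.Modules} [M.IsQuasicoherent] (hM : CohB1.IsFP M)
    {K : Type u} [Field K] (τ : Spec (CommRingCat.of K) ⟶ S) {X' : Scheme.{u}} (p : X' ⟶ X)
    (q : X' ⟶ Spec (CommRingCat.of K)) (H : IsPullback p q f τ) (z : Spec (CommRingCat.of K)) :
    @Curv2.euler K _ X' ⟨q⟩ ((Scheme.Modules.pullback p).obj M) = chi f M (τ z) := by
  obtain ⟨g, p', H', hp⟩ := exists_fibre_square f τ p q H z
  haveI := isProper_fiber f (τ z)
  letI : X'.Over (Spec (CommRingCat.of K)) := ⟨q⟩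
  haveI : IsProper (X' ↘ Spec (CommRingCat.of K)) :=
    (MorphismProperty.of_isPullback H' (isProper_fiber f (τ z)) : IsProper q)
  refine (EulerChar.euler_iso K (((Scheme.Modules.pullbackCongr hp.symm).app M) ≪≫
    ((Scheme.Modules.pullbackComp p' _).app M).symm)).trans ?_
  letI : (f.fiber (τ z)).Over (Spec (CommRingCat.of (S.residueField (τ z)))) := ⟨f.fiberToSpecResidueField (τ z)⟩
  haveI : IsProper ((f.fiber (τ z)) ↘ Spec (CommRingCat.of (S.residueField (τ z)))) := isProper_fiber f (τ z)
  haveI := EulerChar.isNoetherian (S.residueField (τ z)) (X := f.fiber (τ z))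
  obtain ⟨_, hfp⟩ := ConsPairLib.isFP_pullback (f.fiberι (τ z)) M hM
  exact @CBC.DegFam.euler_bc _ K _ _ _ _ (f.fiberToSpecResidueField (τ z)) (isProper_fiber f (τ z)) g p' q H' _
    (ConsPairLib.isCoh_of_isFP _ hfp)

/-- compatibility with base change -/
theorem chi_bc {f : X ⟶ S} [IsProper f] {X' S' : Scheme.{u}} {f' : X' ⟶ S'} [IsProper f']
    {G : X' ⟶ X} {g : S' ⟶ S} (H : IsPullback G f' f g) {M : X.Modules} [M.IsQuasicoherent]
    (hM : CohB1.IsFP M) (s : S') : chi f' ((Scheme.Modules.pullback G).obj M) s = chi f M (g s) := by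
  obtain ⟨z⟩ : Nonempty (Spec (S'.residueField s)) :=
    inferInstanceAs (Nonempty (PrimeSpectrum (S'.residueField s)))
  letI : (f'.fiber s).Over (Spec (CommRingCat.of (S'.residueField s))) := ⟨f'.fiberToSpecResidueField s⟩
  haveI : IsProper ((f'.fiber s) ↘ Spec (CommRingCat.of (S'.residueField s))) := isProper_fiber f' s
  have h := chi_eq_of_square f hM (S'.fromSpecResidueField s ≫ g) (f'.fiberι s ≫ G)
    (f'.fiberToSpecResidueField s)
    ((IsPullback.of_hasPullback f' (S'.fromSpecResidueField s)).paste_horiz H) z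
  have hz : (S'.fromSpecResidueField s ≫ g) z = g s := by
    rw [Scheme.Hom.comp_apply]
    exact congrArg g (S'.fromSpecResidueField_apply s z)
  refine Eq.trans ?_ (h.trans (congrArg (chi f M) hz))
  exact EulerChar.euler_iso _ ((Scheme.Modules.pullbackComp (f'.fiberι s) G).app M)

/-- The Hilbert function of the fibre over a point. -/
def hilb (f : X ⟶ S) (F L : X.Modules) (s : S) : ℕ → ℤ :=
  fun n => chi f (CohB1.tensorMod F (CohB1.tensorPow L n)) s

theorem hilb_bc {f : X ⟶ S} [IsProper f] {X' S' : Scheme.{u}} {f' : X' ⟶ S'} [IsProper f']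
    {G : X' ⟶ X} {g : S' ⟶ S} (H : IsPullback G f' f g) {F L : X.Modules} [F.IsQuasicoherent]
    (hF : CohB1.IsFP F) (hL : PicF.IsInvertible L) (s : S') :
    hilb f' ((Scheme.Modules.pullback G).obj F) ((Scheme.Modules.pullback G).obj L) s = hilb f F L (g s) := by
  funext n
  obtain ⟨hq, hfp⟩ := IntProd70.isFP_tensor (F := F) hF (AmpleLib.isInvertible_tensorPow hL n)
  haveI := hq
  refine Eq.trans ?_ (chi_bc H hfp s)
  obtain ⟨e⟩ := EulerFam.pullback_tensorPow G L n
  exact CBC.DegFam.chi_iso f' ((KFlat.PullTensor.pullTensorIso G F (CohB1.tensorPow L n) ≪≫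
    ProjTwist.tensCongr (Iso.refl _) e).symm) s

/-- Over a quasi-compact base on which the sheaf is flat there are finitely many Hilbert functions. -/
theorem finite_range_of_flat [CompactSpace S] (f : X ⟶ S) [IsProper f] [LocallyOfFinitePresentation f]
    (F L : X.Modules) [F.IsQuasicoherent] (hF : CohB1.IsFP F) (hfl : FlatMod.IsFlatOver f F)
    (hL : PicF.IsInvertible L) : (Set.range (hilb f F L)).Finite := by
  choose U hU hUc using fun s => IntProd70.exists_nhd_snapper hF hfl 1 (fun _ => L) (fun _ => hL) s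
  obtain ⟨t, ht⟩ := (isCompact_univ (X := S)).elim_finite_subcover (fun s => (U s : Set S))
    (fun s => (U s).isOpen) fun s _ => Set.mem_iUnion.2 ⟨s, hU s⟩
  refine ((Finset.finite_toSet t).image (hilb f F L)).subset ?_
  rintro _ ⟨s, rfl⟩
  obtain ⟨a, hat, hsa⟩ := Set.mem_iUnion₂.1 (ht (Set.mem_univ s))
  exact ⟨a, hat, funext fun n => (hUc a s hsa fun _ => n).symm⟩

/-- Over an affine base there are finitely many Hilbert functions. -/
theorem finite_range_of_isAffine [IsAffine S] (f : X ⟶ S) [IsProper f] [LocallyOfFinitePresentation f]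
    (F L : X.Modules) [F.IsQuasicoherent] (hF : CohB1.IsFP F) (hL : PicF.IsInvertible L) :
    (Set.range (hilb f F L)).Finite := by
  classical
  have hbot : ∀ U : S.affineOpens, ((⊥ : S.IdealSheafData).ideal U).FG := fun U => by
    rw [Scheme.IdealSheafData.ideal_bot, Pi.bot_apply]
    exact Submodule.fg_bot
  obtain ⟨m, I, h0, -, hlast, hfg, hedge⟩ := FlatMor.Strat.exists_fin_of_chain f F hbot
    (FlatMor.Strat.exists_chain_of_cover f F hF {(⟨⊤, isAffineOpen_top S⟩ : S.affineOpens)} ⊥ hbot
      fun x _ => Set.mem_iUnion₂.2 ⟨_, Finset.mem_singleton_self _, trivial⟩)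
  have hpiece : ∀ i : Fin m, (hilb f F L ''
      (((I i.castSucc).support : Set S) \ ((I i.succ).support : Set S))).Finite := by
    intro i
    let g := FlatMor.Strat.stratum (I i.castSucc) (I i.succ)
    have hcpl : IsCompact (((I i.succ).support : Set S)ᶜ) := by
      let T : S.affineOpens := ⟨⊤, isAffineOpen_top S⟩
      obtain ⟨t, ht⟩ := hfg i.succ T
      have h1 := (I i.succ).coe_support_inter T
      rw [show ((T.1 : S.Opens) : Set S) = Set.univ from rfl, Set.inter_univ, Set.inter_univ, ← ht,
        Scheme.zeroLocus_span, Scheme.zeroLocus_def] at h1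
      rw [h1, Set.compl_iInter₂]
      refine t.finite_toSet.isCompact_biUnion fun a _ => ?_
      rw [compl_compl]
      exact (T.2.basicOpen a).isCompact
    haveI : CompactSpace ↥((I i.castSucc).subschemeι ⁻¹ᵁ (I i.succ).support.compl).toScheme := by
      refine isCompact_iff_compactSpace.1 ?_
      exact (I i.castSucc).subschemeι.isClosedEmbedding.isProperMap.isCompact_preimage hcpl
    obtain ⟨-, -, hfl⟩ := hedge i
    let G := pullback.fst f g
    obtain ⟨hq', hF'⟩ := ConsPairLib.isFP_pullback G F hF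
    haveI := hq'
    refine (finite_range_of_flat (pullback.snd f g) ((Scheme.Modules.pullback G).obj F)
      ((Scheme.Modules.pullback G).obj L) hF' hfl (PicCl.isInvertible_pullback G hL)).subset ?_
    rintro _ ⟨s, ⟨hs1, hs2⟩, rfl⟩
    have hs1' : s ∈ Set.range (I i.castSucc).subschemeι := by
      rw [Scheme.IdealSheafData.range_subschemeι]; exact hs1
    obtain ⟨w, rfl⟩ := hs1'
    exact ⟨⟨w, hs2⟩, hilb_bc (IsPullback.of_hasPullback f g) hF hL _⟩
  refine (Set.finite_iUnion hpiece).subset ?_
  rintro _ ⟨s, rfl⟩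
  have hex : ∀ j : Fin (m + 1), s ∈ ((I j).support : Set S) →
      ∃ i : Fin m, s ∈ ((I i.castSucc).support : Set S) ∧ s ∉ ((I i.succ).support : Set S) := by
    intro j
    induction j using Fin.reverseInduction with
    | last => intro h; rw [hlast, Scheme.IdealSheafData.support_top] at h; exact h.elim
    | cast i ih =>
      intro h
      by_cases h' : s ∈ ((I i.succ).support : Set S)
      · exact ih h'
      · exact ⟨i, h, h'⟩
  obtain ⟨i, h1, h2⟩ := hex 0 (by rw [h0, Scheme.IdealSheafData.support_bot]; trivial)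
  exact Set.mem_iUnion.2 ⟨i, s, ⟨h1, h2⟩, rfl⟩

/-- Over a quasi-compact base there are finitely many Hilbert functions. -/
theorem finite_range [CompactSpace S] (f : X ⟶ S) [IsProper f] [LocallyOfFinitePresentation f]
    (F L : X.Modules) [F.IsQuasicoherent] (hF : CohB1.IsFP F) (hL : PicF.IsInvertible L) :
    (Set.range (hilb f F L)).Finite := by
  choose U hU hsU hUS using fun s : S => exists_isAffineOpen_mem_and_subset (U := (⊤ : S.Opens)) (x := s) trivial
  obtain ⟨t, ht⟩ := (isCompact_univ (X := S)).elim_finite_subcover (fun s => (U s : Set S))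
    (fun s => (U s).isOpen) fun s _ => Set.mem_iUnion.2 ⟨s, hsU s⟩
  have hpiece : ∀ a : S, (hilb f F L '' (U a : Set S)).Finite := by
    intro a
    haveI : IsAffine (U a).toScheme := hU a
    haveI : IsProper (f ∣_ U a) := IsZariskiLocalAtTarget.restrict (P := @IsProper) ‹_› _
    haveI : LocallyOfFinitePresentation (f ∣_ U a) :=
      MorphismProperty.of_isPullback (P := @LocallyOfFinitePresentation) (isPullback_morphismRestrict f (U a)).flip ‹_›
    let G := (f ⁻¹ᵁ U a).ι
    obtain ⟨hq', hF'⟩ := ConsPairLib.isFP_pullback G F hF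
    haveI := hq'
    refine (finite_range_of_isAffine (f ∣_ U a) ((Scheme.Modules.pullback G).obj F)
      ((Scheme.Modules.pullback G).obj L) hF' (PicCl.isInvertible_pullback G hL)).subset ?_
    rintro _ ⟨s, hs, rfl⟩
    exact ⟨⟨s, hs⟩, hilb_bc (isPullback_morphismRestrict f (U a)).flip hF hL _⟩
  refine (t.finite_toSet.biUnion fun a _ => hpiece a).subset ?_
  rintro _ ⟨s, rfl⟩
  obtain ⟨a, hat, hsa⟩ := Set.mem_iUnion₂.1 (ht (Set.mem_univ s))
  exact Set.mem_biUnion hat ⟨s, hsa, rfl⟩

end Groth.Agent.HilbFin
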